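import Groth.Agent.EtPtsLib.GermEq
import Groth.Agent.EtPtsLib.Agree

/-!
# Units of inverse and direct image on constant sheaves

If every étale scheme over `X` is covered by étale schemes whose base change along `g : T → X` has preconnected
nonempty underlying space, then a constant sheaf on `X` is the direct image of its inverse image along `g`.
-/

set_option autoImplicit false
set_option linter.style.haveILetI false
set_option backward.isDefEq.respectTransparency false
set_option backward.isDefEq.respectTransparency.types false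

universe u
open CategoryTheory CategoryTheory.Limits AlgebraicGeometry Opposite

noncomputable section

namespace Groth.Agent.ConstGenLib

variable {T X : Scheme.{u}} (g : T ⟶ X)

/-- Every point of an étale `X`-scheme has an étale neighbourhood with preconnected nonempty base change. -/
def ConnAlong : Prop :=
  ∀ (U : X.Etale) (u₀ : U.left), ∃ (V : X.Etale) (p : V ⟶ U) (v : V.left),
    p.left v = u₀ ∧ Nonempty ((EtCoh.bc g).obj V).left ∧ PreconnectedSpace ((EtCoh.bc g).obj V).left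

variable (M : AddCommGrpCat.{u + 1})

/-- The constant sheaf. -/
abbrev C : EtCoh.Ab X := (constantSheaf X.smallEtaleTopology AddCommGrpCat.{u + 1}).obj M

/-- Constants in the inverse image of a constant sheaf. -/
def pcst (V : X.Etale) (c : M) : EtCoh.sect ((EtCoh.pull g).obj (C M)) ((EtCoh.bc g).obj V) :=
  ((EtCoh.pullPushAdj g).unit.app (C M)).hom.app (op V) (EtPtsLib.cst M V c)

theorem exists_liftBc {V : X.Etale} {Ω : Type u} [Field Ω] [IsSepClosed Ω] (ζ : Spec (CommRingCat.of Ω) ⟶ T)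
    (b : (Scheme.pointSmallEtale ζ).fiber.obj ((EtCoh.bc g).obj V)) :
    ∃ l : (Scheme.pointSmallEtale (ζ ≫ g)).fiber.obj V, EtPtsLib.liftBc g ζ V l = b := by
  refine ⟨Over.homMk (EtPtsLib.liftHom ζ b ≫ EtPtsLib.bcFst g V) ?_, EtPtsLib.fiber_bc_ext g ζ ?_⟩
  · refine (Category.assoc _ _ _).trans ((congrArg (EtPtsLib.liftHom ζ b ≫ ·) pullback.condition).trans ?_)
    exact (Category.assoc _ _ _).symm.trans (congrArg (· ≫ g) (EtPtsLib.liftHom_comp ζ b))
  · rw [EtPtsLib.liftHom_liftBc_fst]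
    rfl

theorem bijective_germ_pcst {V : X.Etale} {Ω : Type u} [Field Ω] [IsSepClosed Ω] (ζ : Spec (CommRingCat.of Ω) ⟶ T)
    (b : (Scheme.pointSmallEtale ζ).fiber.obj ((EtCoh.bc g).obj V)) :
    Function.Bijective fun c : M => EtPtsLib.germ ζ ((EtCoh.pull g).obj (C M)) b (pcst g M V c) := by
  obtain ⟨l, rfl⟩ := exists_liftBc g ζ b
  have h : (fun c : M => EtPtsLib.germ ζ ((EtCoh.pull g).obj (C M)) (EtPtsLib.liftBc g ζ V l) (pcst g M V c)) =
      ⇑(EtPtsLib.unitStalk g ζ (C M)) ∘ fun c : M => EtPtsLib.germ (ζ ≫ g) (C M) l (EtPtsLib.cst M V c) := by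
    funext c
    exact congr($((EtPtsLib.toPresheafFiber_unitStalk g ζ (C M) V l).symm) (EtPtsLib.cst M V c))
  rw [h]
  exact (EtPtsLib.bijective_unitStalk g ζ (C M)).comp (EtPtsLib.germ_cst_bijective (ζ ≫ g) M l)

/-- At each point of a base change exactly one constant agrees with a given section. -/
theorem existsUnique_mem_agree {V : X.Etale} (s : EtCoh.sect ((EtCoh.pull g).obj (C M)) ((EtCoh.bc g).obj V))
    (b : ((EtCoh.bc g).obj V).left) :
    ∃! c : M, b ∈ EtPtsLib.agree ((EtCoh.pull g).obj (C M)).obj s (pcst g M V c) := by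
  let B := (EtCoh.bc g).obj V
  let G := (EtCoh.pull g).obj (C M)
  obtain ⟨l, hl⟩ := Scheme.pointSmallEtaleFiberObjToPreimage_surjective
    (EtPtsLib.geomPt (B.hom b)) (EtPtsLib.geomPt_default _) B ⟨b, rfl⟩
  have hb : EtPtsLib.liftHom (EtPtsLib.geomPt (B.hom b)) l default = b := congrArg Subtype.val hl
  obtain ⟨c, hc⟩ := (bijective_germ_pcst g M _ l).2 (EtPtsLib.germ _ G l s)
  refine ⟨c, hb ▸ (EtPtsLib.germ_eq_iff_mem_agree _ G.obj l s _).1 hc.symm, fun d hd => ?_⟩
  refine (bijective_germ_pcst g M _ l).1 (Eq.trans ?_ hc.symm)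
  exact ((EtPtsLib.germ_eq_iff_mem_agree _ G.obj l s _).2 (hb.symm ▸ hd)).symm

/-- Constants restrict to constants. -/
theorem pcst_map {U V : X.Etale} (p : V ⟶ U) (c : M) :
    ((EtCoh.pull g).obj (C M)).obj.map ((EtCoh.bc g).map p).op (pcst g M U c) = pcst g M V c := by
  refine (NatTrans.naturality_apply ((EtCoh.pullPushAdj g).unit.app (C (X := X) M)).hom p.op _).symm.trans ?_
  exact congrArg _ congr($(EtPtsLib.cst_map M p) c)

variable {V : X.Etale} [hne : Nonempty ((EtCoh.bc g).obj V).left]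

include hne in
theorem pcst_injective : Function.Injective (pcst g M V) := by
  intro a c h
  obtain ⟨b⟩ := hne
  obtain ⟨l, -⟩ := Scheme.pointSmallEtaleFiberObjToPreimage_surjective
    (EtPtsLib.geomPt (((EtCoh.bc g).obj V).hom b)) (EtPtsLib.geomPt_default _) ((EtCoh.bc g).obj V) ⟨b, rfl⟩
  exact (bijective_germ_pcst g M _ l).1 (congrArg (EtPtsLib.germ _ _ l) h)

include hne in
theorem pcst_surjective [PreconnectedSpace ((EtCoh.bc g).obj V).left]
    (s : EtCoh.sect ((EtCoh.pull g).obj (C M)) ((EtCoh.bc g).obj V)) : ∃ c : M, pcst g M V c = s := by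
  let B := (EtCoh.bc g).obj V
  let G := (EtCoh.pull g).obj (C M)
  let A : M → Set B.left := fun c => EtPtsLib.agree G.obj s (pcst g M V c)
  have hcov : ∀ b : B.left, ∃ c : M, b ∈ A c ∧ ∀ d : M, b ∈ A d → d = c := fun b => by
    obtain ⟨l, hl⟩ := Scheme.pointSmallEtaleFiberObjToPreimage_surjective
      (EtPtsLib.geomPt (B.hom b)) (EtPtsLib.geomPt_default _) B ⟨b, rfl⟩
    have hb : EtPtsLib.liftHom (EtPtsLib.geomPt (B.hom b)) l default = b := congrArg Subtype.val hl
    obtain ⟨c, hc⟩ := (bijective_germ_pcst g M _ l).2 (EtPtsLib.germ _ G l s)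
    refine ⟨c, hb ▸ (EtPtsLib.germ_eq_iff_mem_agree _ G.obj l s _).1 hc.symm, fun d hd => ?_⟩
    refine (bijective_germ_pcst g M _ l).1 (Eq.trans ?_ hc.symm)
    exact ((EtPtsLib.germ_eq_iff_mem_agree _ G.obj l s _).2 (hb.symm ▸ hd)).symm
  choose c hc huniq using hcov
  obtain ⟨b₀⟩ := hne
  have hclop : IsClopen (A (c b₀)) := by
    refine ⟨isOpen_compl_iff.1 (isOpen_iff_forall_mem_open.2 fun b hb => ?_), EtPtsLib.isOpen_agree _ _ _⟩
    refine ⟨A (c b), fun y hy hy' => hb ?_, EtPtsLib.isOpen_agree _ _ _, hc b⟩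
    have e : c b = c b₀ := (huniq y _ hy).trans (huniq y _ hy').symm
    exact e ▸ hc b
  refine ⟨c b₀, (EtPtsLib.sect_ext G B s _ fun Ω _ _ ξ l => ?_).symm⟩
  refine (EtPtsLib.germ_eq_iff_mem_agree ξ G.obj l s _).2 ?_
  exact (hclop.eq_univ ⟨b₀, hc b₀⟩).ge trivial

omit hne in
/-- Nonempty base changes and local constancy of sections make the unit an isomorphism. -/
theorem isIso_unit_of
    (h₁ : ∀ (W : X.Etale) (_ : W.left), ∃ (V : X.Etale) (_ : V ⟶ W), Nonempty ((EtCoh.bc g).obj V).left)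
    (h₂ : ∀ (U : X.Etale) (u₀ : U.left) (t : EtCoh.sect ((EtCoh.pull g).obj (C M)) ((EtCoh.bc g).obj U)),
      ∃ (V : X.Etale) (p : V ⟶ U) (v : V.left) (c : M), p.left v = u₀ ∧
        pcst g M V c = ((EtCoh.pull g).obj (C M)).obj.map ((EtCoh.bc g).map p).op t) :
    IsIso ((EtCoh.pullPushAdj g).unit.app (C M)) := by
  let η := (EtCoh.pullPushAdj g).unit.app (C (X := X) M)
  haveI : Mono η := (EtPtsLib.mono_iff_ab η).2 fun Ω _ _ ξ => by
    refine (injective_iff_map_eq_zero ((EtCoh.stalk ξ).map η).hom).2 fun z hz => ?_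
    obtain ⟨U, l, s, rfl⟩ := (Scheme.pointSmallEtale ξ).toPresheafFiber_jointly_surjective z
    obtain ⟨a, ha⟩ := (EtPtsLib.germ_cst_bijective ξ M l).2 (EtPtsLib.germ ξ (C M) l s)
    have hz0 : EtPtsLib.germ ξ (C (X := X) M) l (EtPtsLib.cst M U 0) = 0 := by simp [EtPtsLib.germ]
    have hz' : EtPtsLib.germ ξ _ l (η.hom.app (op U) (EtPtsLib.cst M U a)) =
        EtPtsLib.germ ξ _ l (η.hom.app (op U) (EtPtsLib.cst M U 0)) := by
      refine ((Scheme.pointSmallEtale ξ).toPresheafFiber_naturality_apply η.hom U l _).symm.trans ?_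
      refine Eq.trans ?_ ((Scheme.pointSmallEtale ξ).toPresheafFiber_naturality_apply η.hom U l _)
      refine ((congrArg _ ha).trans hz).trans ?_
      exact ((congrArg _ hz0).trans (map_zero ((EtCoh.stalk ξ).map η).hom)).symm
    obtain ⟨W, p, y, hy, hW⟩ := ((Scheme.pointSmallEtale ξ).toPresheafFiber_eq_iff' U l _ _).1 hz'
    obtain ⟨V, q, hne⟩ := h₁ W (EtPtsLib.liftHom ξ y default)
    haveI := hne
    have ha0 : a = 0 := by
      refine pcst_injective g M (V := V) ?_
      have h1 : ∀ d : M, pcst g M V d =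
          ((EtCoh.pull g).obj (C M)).obj.map ((EtCoh.bc g).map (q ≫ p)).op (pcst g M U d) := fun d => by
        show η.hom.app (op V) _ = _
        rw [← show (C (X := X) M).obj.map (q ≫ p).op (EtPtsLib.cst M U d) = EtPtsLib.cst M V d from
          congr($(EtPtsLib.cst_map M (q ≫ p)) d)]
        exact NatTrans.naturality_apply η.hom (q ≫ p).op _
      rw [h1, h1]
      show ((EtCoh.push g).obj ((EtCoh.pull g).obj (C M))).obj.map (q ≫ p).op (η.hom.app (op U) _) =
        ((EtCoh.push g).obj ((EtCoh.pull g).obj (C M))).obj.map (q ≫ p).op (η.hom.app (op U) _)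
      rw [op_comp, Functor.map_comp, ConcreteCategory.comp_apply, ConcreteCategory.comp_apply]
      exact congrArg _ hW
    exact ha.symm.trans (ha0 ▸ hz0)
  haveI : Epi η := (EtPtsLib.epi_iff_ab η).2 fun Ω _ _ ξ z => by
    obtain ⟨U, l, t, rfl⟩ := (Scheme.pointSmallEtale ξ).toPresheafFiber_jointly_surjective z
    obtain ⟨V, p, v, a, hv, ha⟩ := h₂ U (EtPtsLib.liftHom ξ l default) t
    obtain ⟨y, hy⟩ := EtPtsLib.exists_fiber_map_eq ξ p l v hv
    refine ⟨EtPtsLib.germ ξ _ y (EtPtsLib.cst M V a), ?_⟩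
    refine ((Scheme.pointSmallEtale ξ).toPresheafFiber_naturality_apply η.hom V y _).trans ?_
    refine (congrArg _ ha).trans ?_
    rw [← hy]
    exact EtPtsLib.germ_map ξ _ p y t
  exact isIso_of_mono_of_epi η

omit hne in
/-- The unit on a constant sheaf is an isomorphism. -/
theorem isIso_unit (h : ConnAlong g) : IsIso ((EtCoh.pullPushAdj g).unit.app (C M)) := by
  refine isIso_unit_of g M (fun W w => ?_) fun U u₀ t => ?_
  · obtain ⟨V, p, _, -, hne, -⟩ := h W w
    exact ⟨V, p, hne⟩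
  · obtain ⟨V, p, v, hv, hne, hpre⟩ := h U u₀
    haveI := hne; haveI := hpre
    obtain ⟨a, ha⟩ := pcst_surjective g M (((EtCoh.pull g).obj (C M)).obj.map ((EtCoh.bc g).map p).op t)
    exact ⟨V, p, v, a, hv, ha⟩

end Groth.Agent.ConstGenLib
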