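import Groth.Agent.ConstGenLib.Unit
import Groth.Agent.TorsorEtaleExt.Basic

/-!
# Constant sheaves on normal integral schemes are direct images from the generic point
-/

set_option autoImplicit false
set_option linter.style.haveILetI false
set_option backward.isDefEq.respectTransparency false
set_option backward.isDefEq.respectTransparency.types false

universe u
open CategoryTheory CategoryTheory.Limits AlgebraicGeometry Opposite

noncomputable section

namespace Groth.Agent.ConstGenLib

variable {X : Scheme.{u}} [IsIntegral X]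

/-- Étale schemes over a normal integral scheme have neighbourhoods with a unique generic point. -/
theorem exists_nhd (hX : Pi1.IsNormalScheme X) (U : X.Etale) (u₀ : U.left) :
    ∃ (V : X.Etale) (p : V ⟶ U) (v ξ : V.left), p.left v = u₀ ∧ V.hom ξ = genericPoint X ∧
      (∀ z, ξ ⤳ z) ∧ ∀ z, V.hom z = genericPoint X → z = ξ := by
  haveI : Etale U.hom := U.prop
  let f : U.left ⟶ X := U.hom
  obtain ⟨ξ, hξ, he⟩ := Flat.generalizingMap f (genericPoint_specializes (f u₀))
  let W : U.left.Opens := ⟨{w | ξ ⤳ w}, TorsorEtaleExt.exists_open_integral hX f ξ he⟩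
  haveI : LocallyQuasiFinite f := Unibranch.locallyQuasiFinite_of_unramified f
  let hV : Etale (W.ι ≫ f) := inferInstance
  refine ⟨MorphismProperty.Over.mk ⊤ (W.ι ≫ f) hV, MorphismProperty.Over.homMk W.ι rfl,
    (⟨u₀, hξ⟩ : W.toScheme), (⟨ξ, specializes_rfl⟩ : W.toScheme), rfl, he, fun z => ?_, fun z hz => ?_⟩
  · exact W.ι.isOpenEmbedding.isInducing.specializes_iff.1 z.2
  · refine W.ι.isOpenEmbedding.injective ?_
    exact (Unibranch.max_of_map_eq_genericPoint f z.1 hz ξ z.2).symm

/-- A morphism onto the generic point that is an embedding satisfies the connectedness condition. -/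
theorem connAlong_of_range_eq {T : Scheme.{u}} (g : T ⟶ X) [IsPreimmersion g]
    (hg : Set.range g = {genericPoint X}) (hX : Pi1.IsNormalScheme X) : ConnAlong g := fun U u₀ => by
  obtain ⟨V, p, v, ξ, hv, hξ, hgen, huniq⟩ := exists_nhd hX U u₀
  have hr : ∀ b, V.hom (pullback.fst V.hom g b) = genericPoint X := fun b => by
    rw [← Scheme.Hom.comp_apply, pullback.condition, Scheme.Hom.comp_apply]
    exact hg.le ⟨_, rfl⟩
  refine ⟨V, p, v, hv, ?_, ?_⟩
  · obtain ⟨z, hz⟩ : ξ ∈ Set.range (pullback.fst V.hom g) := by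
      rw [Scheme.Pullback.range_fst]
      show V.hom ξ ∈ Set.range g
      exact hg.ge hξ
    exact ⟨z⟩
  · haveI : IsPreimmersion (pullback.fst V.hom g) := MorphismProperty.pullback_fst _ _ inferInstance
    haveI : Subsingleton ↥(pullback V.hom g) := ⟨fun a b => (pullback.fst V.hom g).isEmbedding.injective
      ((huniq _ (hr a)).trans (huniq _ (hr b)).symm)⟩
    exact inferInstanceAs (PreconnectedSpace ↥(pullback V.hom g))

theorem connAlong_fromSpecResidueField (hX : Pi1.IsNormalScheme X) :
    ConnAlong (X.fromSpecResidueField (genericPoint X)) :=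
  connAlong_of_range_eq _ (Scheme.range_fromSpecResidueField _) hX

theorem connAlong_fromSpecStalk (hX : Pi1.IsNormalScheme X) :
    ConnAlong (X.fromSpecStalk (genericPoint X)) := by
  refine connAlong_of_range_eq _ ?_ hX
  rw [Scheme.range_fromSpecStalk]
  ext z
  exact ⟨fun h => (h.antisymm (genericPoint_specializes z)).eq, fun h => h ▸ specializes_rfl⟩

theorem connAlong_openImmersion (hX : Pi1.IsNormalScheme X) {T : Scheme.{u}} (j : T ⟶ X) [IsOpenImmersion j]
    (hj : (Set.range j).Nonempty) : ConnAlong j := fun U u₀ => by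
  obtain ⟨V, p, v, ξ, hv, hξ, hgen, huniq⟩ := exists_nhd hX U u₀
  have hη : genericPoint X ∈ Set.range j := by
    obtain ⟨y, hy⟩ := hj
    exact (genericPoint_specializes y).mem_open j.isOpenEmbedding.isOpen_range hy
  let q := pullback.fst V.hom j
  obtain ⟨z, hz⟩ : ξ ∈ Set.range q := by
    rw [Scheme.Pullback.range_fst]
    show V.hom ξ ∈ Set.range j
    exact hξ.symm ▸ hη
  haveI : IsOpenImmersion q := MorphismProperty.pullback_fst _ _ inferInstance
  refine ⟨V, p, v, hv, ⟨z⟩, ?_⟩
  have hgp : IsGenericPoint z (Set.univ : Set ↥(pullback V.hom j)) := isGenericPoint_iff_specializes.2 fun y =>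
    ⟨fun _ => trivial, fun _ => q.isOpenEmbedding.isInducing.specializes_iff.1 (hz ▸ hgen (q y))⟩
  haveI : PreirreducibleSpace ↥(pullback V.hom j) := ⟨hgp.isIrreducible.isPreirreducible⟩
  exact inferInstanceAs (PreconnectedSpace ↥(pullback V.hom j))

end Groth.Agent.ConstGenLib
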