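import Groth.Agent.S0089
import Groth.Agent.Hensel.FiniteEtale

/-!
# Étale schemes over closed subschemes of affine normal schemes with separably closed function field
-/

set_option autoImplicit false
set_option linter.style.haveILetI false
set_option backward.isDefEq.respectTransparency false
set_option backward.isDefEq.respectTransparency.types false

universe u
open CategoryTheory CategoryTheory.Limits AlgebraicGeometry Opposite

noncomputable section

namespace Groth.Agent.ConstGenLib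

/-- An affine scheme étale over a closed subscheme of an affine scheme embeds in an affine étale scheme. -/
theorem exists_closedImmersion_lift {V Z X : Scheme.{u}} [IsAffine X] (i : Z ⟶ X) [IsClosedImmersion i]
    (φ : V ⟶ Z) [AlgebraicGeometry.Etale φ] [IsAffine V] :
    ∃ (U : Scheme.{u}) (g : U ⟶ X) (k : V ⟶ U),
      AlgebraicGeometry.Etale g ∧ IsAffine U ∧ IsClosedImmersion k ∧ k ≫ g = φ ≫ i := by
  haveI : IsAffine Z := isAffine_of_isAffineHom i
  let A : Type u := Γ(X, ⊤)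
  let R : Type u := Γ(Z, ⊤)
  let C : Type u := Γ(V, ⊤)
  let a : A →+* R := i.appTop.hom
  let b : R →+* C := φ.appTop.hom
  have hsurj : Function.Surjective a := i.app_surjective ⊤ (isAffineOpen_top X)
  let I := RingHom.ker a
  let e : A ⧸ I ≃+* R := RingHom.quotientKerEquivOfSurjective hsurj
  letI : Algebra (A ⧸ I) C := (b.comp e.toRingHom).toAlgebra
  letI : Algebra A C := (b.comp a).toAlgebra
  haveI : IsScalarTower A (A ⧸ I) C := IsScalarTower.of_algebraMap_eq' rfl
  haveI : Algebra.Etale (A ⧸ I) C := RingHom.etale_algebraMap.1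
    (RingHom.Etale.stableUnderComposition _ _ (RingHom.Etale.of_bijective e.bijective)
      (HasRingHomProperty.appTop (P := @AlgebraicGeometry.Etale) φ inferInstance))
  obtain ⟨A', _, _, hA', Φ, hΦ, -⟩ := Hensel.exists_etale_lift_of_quotient (I := I) C
  refine ⟨Spec (CommRingCat.of A'), Spec.map (CommRingCat.ofHom (algebraMap A A')) ≫ X.isoSpec.inv,
    V.isoSpec.hom ≫ Spec.map (CommRingCat.ofHom Φ.toRingHom), ?_, inferInstance, ?_, ?_⟩
  · haveI : AlgebraicGeometry.Etale (Spec.map (CommRingCat.ofHom (algebraMap A A'))) :=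
      (HasRingHomProperty.Spec_iff (P := @AlgebraicGeometry.Etale)).2 (RingHom.etale_algebraMap.2 hA')
    infer_instance
  · haveI : IsClosedImmersion (Spec.map (CommRingCat.ofHom Φ.toRingHom)) :=
      IsClosedImmersion.spec_of_surjective _ hΦ
    infer_instance
  · have h : CommRingCat.ofHom (algebraMap A A') ≫ CommRingCat.ofHom Φ.toRingHom = (φ ≫ i).appTop := by
      rw [Scheme.Hom.comp_appTop]
      ext x
      exact Φ.commutes x
    rw [Category.assoc, ← Category.assoc (Spec.map _) (Spec.map _), ← Spec.map_comp, h, ← Category.assoc,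
      Scheme.isoSpec_hom_naturality, Category.assoc, Iso.hom_inv_id, Category.comp_id]

variable {V Z X : Scheme.{u}} [IsAffine X] [IsIntegral X]
  (hN : ∀ x : X, IsIntegrallyClosed (X.presheaf.stalk x)) [IsSepClosed X.functionField]
  (i : Z ⟶ X) [IsClosedImmersion i] (φ : V ⟶ Z) [AlgebraicGeometry.Etale φ] [IsAffine V]

include hN i in
/-- Affine étale schemes over a closed subscheme split into finitely many open subschemes. -/
theorem exists_iso_sigma_opens :
    ∃ (ι : Type u) (_ : Finite ι) (W : ι → Z.Opens) (e : (∐ fun k => (W k : Scheme.{u})) ≅ V),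
      ∀ k, Sigma.ι (fun k => (W k : Scheme.{u})) k ≫ e.hom ≫ φ = (W k).ι := by
  obtain ⟨U, g, k, _, _, _, hk⟩ := exists_closedImmersion_lift i φ
  obtain ⟨ι, O, e, he⟩ := S0089.result hN g
  let c : ∀ j, (O j : Scheme.{u}) ⟶ U := fun j => Sigma.ι (fun j => (O j : Scheme.{u})) j ≫ e.hom
  let P : ι → U.Opens := fun j => (c j).opensRange
  let Q : ι → V.Opens := fun j => k ⁻¹ᵁ P j
  have hdisj : Pairwise fun a b => Disjoint (Set.range (c a)) (Set.range (c b)) := fun a b hab => by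
    show Disjoint (Set.range (c a)) (Set.range (c b))
    rw [Set.disjoint_iff]
    rintro z ⟨⟨x, rfl⟩, y, hy⟩
    simp only [c, Scheme.Hom.comp_apply] at hy
    obtain ⟨rfl, -⟩ := (sigmaι_eq_iff _ _ _ _ _).1 (e.hom.isOpenEmbedding.injective hy)
    exact hab rfl
  have hcov : ∀ v : V, ∃ j, v ∈ Q j := fun v => by
    obtain ⟨z, hz⟩ := e.hom.surjective (k v)
    obtain ⟨⟨j, x⟩, rfl⟩ := (sigmaMk fun j => (O j : Scheme.{u})).surjective z
    rw [sigmaMk_mk] at hz
    exact ⟨j, x, (Scheme.Hom.comp_apply _ _ _).trans hz⟩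
  obtain ⟨S, hS⟩ := isCompact_univ.elim_finite_subcover (fun j => (Q j : Set V)) (fun j => (Q j).2)
    fun v _ => Set.mem_iUnion.2 (hcov v)
  haveI hO : ∀ j, IsOpenImmersion ((Q j).ι ≫ φ) := fun j => by
    haveI : Mono ((Q j).ι ≫ φ ≫ i) := by
      rw [← hk]
      have h1 : (Q j).ι ≫ k = ((k ∣_ P j) ≫ (c j).isoOpensRange.inv) ≫ c j := by
        rw [Category.assoc, Scheme.Hom.isoOpensRange_inv_comp]
        exact (morphismRestrict_ι k (P j)).symm
      have h2 : c j ≫ g = (O j).ι := by rw [← he j, Category.assoc]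
      rw [← Category.assoc, h1, Category.assoc, h2]
      infer_instance
    haveI : Mono (((Q j).ι ≫ φ) ≫ i) := by rwa [Category.assoc]
    haveI : Mono ((Q j).ι ≫ φ) := mono_of_mono _ i
    exact IsOpenImmersion.of_flat_of_mono _
  let κ : Type u := {j // j ∈ S}
  let W : κ → Z.Opens := fun j => ((Q j.1).ι ≫ φ).opensRange
  let d : ∀ j : κ, (W j : Scheme.{u}) ⟶ V := fun j => ((Q j.1).ι ≫ φ).isoOpensRange.inv ≫ (Q j.1).ι
  haveI : IsOpenImmersion (Sigma.desc d) := by
    refine isOpenImmersion_sigmaDesc _ _ fun a b hab => ?_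
    rw [Function.onFun, Set.disjoint_iff]
    rintro _ ⟨⟨x, rfl⟩, y, hy⟩
    have hb : d a x ∈ Q b.1 := hy ▸ (((Q b.1).ι ≫ φ).isoOpensRange.inv y).2
    exact Set.disjoint_iff.1 (hdisj fun h => hab (Subtype.ext h))
      ⟨(((Q a.1).ι ≫ φ).isoOpensRange.inv x).2, hb⟩
  haveI : Surjective (Sigma.desc d) := ⟨fun v => by
    obtain ⟨j, hj, hv⟩ := Set.mem_iUnion₂.1 (hS (Set.mem_univ v))
    refine ⟨Sigma.ι (fun j : κ => (W j : Scheme.{u})) ⟨j, hj⟩ (((Q j).ι ≫ φ).isoOpensRange.hom ⟨v, hv⟩), ?_⟩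
    rw [← Scheme.Hom.comp_apply, Sigma.ι_desc, ← Scheme.Hom.comp_apply, Iso.hom_inv_id_assoc]
    rfl⟩
  haveI : IsIso (Sigma.desc d) := (isIso_iff_isOpenImmersion_and_surjective _).2 ⟨inferInstance, inferInstance⟩
  refine ⟨κ, inferInstance, W, asIso (Sigma.desc d), fun j => ?_⟩
  rw [asIso_hom, Sigma.ι_desc_assoc, Category.assoc, Scheme.Hom.isoOpensRange_inv_comp]

omit [IsAffine V] in
include hN i in
/-- Finite étale coverings of closed subschemes have sections. -/
theorem exists_section [IsFinite φ] [Surjective φ] : ∃ s : Z ⟶ V, s ≫ φ = 𝟙 Z := by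
  haveI : IsAffine Z := isAffine_of_isAffineHom i
  haveI : IsAffine V := isAffine_of_isAffineHom φ
  obtain ⟨κ, _, W, e, he⟩ := exists_iso_sigma_opens hN i φ
  let c : ∀ j, (W j : Scheme.{u}) ⟶ V := fun j => Sigma.ι (fun j => (W j : Scheme.{u})) j ≫ e.hom
  have hcl : ∀ j, IsClosed (W j : Set Z) := fun j => by
    have h1 : (W j : Set Z) = φ '' Set.range (c j) := by
      rw [← Set.range_comp]
      show _ = Set.range ((c j ≫ φ : (W j : Scheme.{u}) ⟶ Z))
      rw [Category.assoc, he, Scheme.Opens.range_ι]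
    rw [h1]
    refine φ.isClosedMap _ (isOpen_compl_iff.1 (isOpen_iff_forall_mem_open.2 fun v hv => ?_))
    obtain ⟨z, rfl⟩ := e.hom.surjective v
    obtain ⟨⟨l, x⟩, rfl⟩ := (sigmaMk fun j => (W j : Scheme.{u})).surjective z
    rw [sigmaMk_mk] at hv ⊢
    refine ⟨Set.range (c l), ?_, (c l).isOpenEmbedding.isOpen_range, x, Scheme.Hom.comp_apply _ _ _⟩
    rintro _ ⟨y, rfl⟩ ⟨w, hw⟩
    simp only [c, Scheme.Hom.comp_apply] at hw
    obtain ⟨rfl, -⟩ := (sigmaι_eq_iff _ _ _ _ _).1 (e.hom.isOpenEmbedding.injective hw)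
    exact hv ⟨x, Scheme.Hom.comp_apply _ _ _⟩
  obtain ⟨n, ⟨σ⟩⟩ := Finite.exists_equiv_fin κ
  let O : κ → Z.Opens := fun j => ⟨(W j : Set Z) \ ⋃ l ∈ {l | σ l < σ j}, (W l : Set Z),
    (W j).2.sdiff (Set.toFinite _ |>.isClosed_biUnion fun l _ => hcl l)⟩
  have hOW : ∀ j, O j ≤ W j := fun j z hz => hz.1
  haveI : IsOpenImmersion (Sigma.desc fun j => (O j).ι) := by
    refine isOpenImmersion_sigmaDesc _ _ fun a b hab => ?_
    show Disjoint (Set.range (O a).ι) (Set.range (O b).ι)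
    rw [Scheme.Opens.range_ι, Scheme.Opens.range_ι, Set.disjoint_iff]
    rintro z ⟨⟨ha, ha'⟩, hb, hb'⟩
    rcases lt_trichotomy (σ a) (σ b) with h | h | h
    · exact hb' (Set.mem_biUnion (show a ∈ {l | σ l < σ b} from h) ha)
    · exact hab (σ.injective h)
    · exact ha' (Set.mem_biUnion (show b ∈ {l | σ l < σ a} from h) hb)
  haveI : Surjective (Sigma.desc fun j => (O j).ι) := ⟨fun z => by
    obtain ⟨v, hv⟩ := φ.surjective z
    obtain ⟨y, rfl⟩ := e.hom.surjective v
    obtain ⟨⟨l, x⟩, rfl⟩ := (sigmaMk fun j => (W j : Scheme.{u})).surjective y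
    have hz : z ∈ W l := by
      rw [sigmaMk_mk, ← Scheme.Hom.comp_apply, ← Scheme.Hom.comp_apply, he] at hv
      exact hv ▸ x.2
    obtain ⟨m, hm, hmin⟩ := Set.exists_min_image {j | z ∈ W j} σ (Set.toFinite _) ⟨l, hz⟩
    refine ⟨Sigma.ι (fun j => (O j : Scheme.{u})) m (⟨z, hm, ?_⟩ : (O m : Scheme.{u})), ?_⟩
    · simp only [Set.mem_iUnion, not_exists]
      exact fun j hj hjz => absurd (hmin j hjz) (not_le.2 hj)
    · rw [← Scheme.Hom.comp_apply, Sigma.ι_desc]
      rfl⟩
  haveI : IsIso (Sigma.desc fun j => (O j).ι) :=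
    (isIso_iff_isOpenImmersion_and_surjective _).2 ⟨inferInstance, inferInstance⟩
  refine ⟨inv (Sigma.desc fun j => (O j).ι) ≫ Sigma.desc fun j => Z.homOfLE (hOW j) ≫ c j, ?_⟩
  rw [Category.assoc, IsIso.inv_comp_eq, Category.comp_id]
  ext1 j
  rw [Sigma.ι_desc_assoc, Sigma.ι_desc, Category.assoc, Category.assoc, he, Scheme.homOfLE_ι]

end Groth.Agent.ConstGenLib
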