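import Groth.Agent.ConstGenLib.Unit
import Groth.Agent.Unibranch.NormalStalk
import Groth.Agent.SpectralLib.Basic
import Groth.Prelude.Def_Pi1

/-!
# Constant sheaves on normal schemes are direct images from dense quasi-compact opens
-/

set_option autoImplicit false
set_option linter.style.haveILetI false
set_option backward.isDefEq.respectTransparency false
set_option backward.isDefEq.respectTransparency.types false

universe u
open CategoryTheory CategoryTheory.Limits AlgebraicGeometry Opposite Topology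

noncomputable section

namespace Groth.Agent.ConstGenLib

variable {X T : Scheme.{u}} (hX : Pi1.IsNormalScheme X) (j : T ⟶ X) [IsOpenImmersion j] [QuasiCompact j]
  (hj : Dense (Set.range j))

include hX hj

theorem isIso_unit_of_dense (M : AddCommGrpCat.{u + 1}) :
    IsIso ((EtCoh.pullPushAdj j).unit.app (C M)) := by
  refine isIso_unit_of j M (fun W w => ?_) fun U u₀ t => ?_
  · haveI : Etale W.hom := W.prop
    have hd : Dense (W.hom ⁻¹' Set.range j) := hj.preimage W.hom.isOpenMap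
    obtain ⟨z, -, hz⟩ := hd.inter_open_nonempty Set.univ isOpen_univ ⟨w, trivial⟩
    obtain ⟨b, -⟩ : z ∈ Set.range (pullback.fst W.hom j) := by rw [Scheme.Pullback.range_fst]; exact hz
    exact ⟨W, 𝟙 W, ⟨b⟩⟩
  haveI : Etale U.hom := U.prop
  obtain ⟨_, ⟨W₀, hW₀, rfl⟩, hu₀, -⟩ :=
    U.left.isBasis_affineOpens.exists_subset_of_mem_open (Set.mem_univ u₀) isOpen_univ
  let W : U.left.Opens := W₀
  haveI : IsAffine W.toScheme := hW₀
  have hWE : Etale (W.ι ≫ U.hom) := inferInstance
  let WE : X.Etale := MorphismProperty.Over.mk ⊤ (W.ι ≫ U.hom) hWE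
  let pW : WE ⟶ U := MorphismProperty.Over.homMk W.ι rfl
  let G := (EtCoh.pull j).obj (C (X := X) M)
  let t' := G.obj.map ((EtCoh.bc j).map pW).op t
  let f : W.toScheme ⟶ X := W.ι ≫ U.hom
  let q : pullback f j ⟶ W.toScheme := pullback.fst f j
  haveI : IsOpenImmersion q := MorphismProperty.pullback_fst _ _ inferInstance
  haveI : QuasiCompact q := MorphismProperty.pullback_fst _ _ inferInstance
  haveI : CompactSpace ↥(pullback f j) := QuasiCompact.compactSpace_of_compactSpace q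
  haveI : SpectralSpace ↥W.toScheme := {}
  let w₀ : W.toScheme := ⟨u₀, hu₀⟩
  haveI : IsDomain (W.toScheme.presheaf.stalk w₀) := (Unibranch.normal_stalk_of_etale f w₀ (hX _)).1
  let ξ : W.toScheme := W.toScheme.fromSpecStalk w₀ (⟨⊥, Ideal.isPrime_bot⟩ : PrimeSpectrum _)
  have hgen : ∀ e : W.toScheme, e ⤳ w₀ → ξ ⤳ e := fun e he => by
    obtain ⟨P, rfl⟩ : e ∈ Set.range (W.toScheme.fromSpecStalk w₀) := by
      rw [Scheme.range_fromSpecStalk]; exact he
    exact Specializes.map ((PrimeSpectrum.le_iff_specializes _ _).1 bot_le) (W.toScheme.fromSpecStalk w₀).continuous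
  have hξw : ξ ⤳ w₀ := by
    have : ξ ∈ Set.range (W.toScheme.fromSpecStalk w₀) := ⟨_, rfl⟩
    rwa [Scheme.range_fromSpecStalk] at this
  have hO : Set.range q = f ⁻¹' Set.range j := Scheme.Pullback.range_fst _ _
  have hξO : ξ ∈ Set.range q := by
    have hd : Dense (Set.range q) := hO ▸ hj.preimage f.isOpenMap
    obtain ⟨e, he, hes⟩ := SpectralLib.exists_specializes_of_mem_closure
      (SpectralLib.isClosed_C_of_compactOpen q.isOpenEmbedding.isOpen_range
        (isCompact_range q.continuous)) (hd ξ)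
    exact ((hgen e (hes.trans hξw)).antisymm hes).eq ▸ he
  obtain ⟨b₀, hb₀⟩ := hξO
  have key := existsUnique_mem_agree j M (V := WE) t'
  choose c hc huniq using key
  let K : M → Set ↥(pullback f j) := fun a => EtPtsLib.agree G.obj t' (pcst j M WE a)
  have hclopen : ∀ a, IsClopen (K a) := fun a => by
    refine ⟨isOpen_compl_iff.1 (isOpen_iff_forall_mem_open.2 fun b hb => ?_), EtPtsLib.isOpen_agree _ _ _⟩
    exact ⟨K (c b), fun y hy hy' => hb (((huniq y _ hy').trans (huniq y _ hy).symm).symm ▸ hc b),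
      EtPtsLib.isOpen_agree _ _ _, hc b⟩
  obtain ⟨S, hS⟩ := isCompact_univ.elim_finite_subcover K (fun a => (hclopen a).2)
    fun b _ => Set.mem_iUnion.2 ⟨c b, hc b⟩
  let bad : Set W.toScheme := ⋃ a ∈ {a : M | a ∈ S ∧ a ≠ c b₀}, closure (q '' K a)
  have hbad : IsClosed bad :=
    ((S.finite_toSet).subset fun a ha => ha.1).isClosed_biUnion fun _ _ => isClosed_closure
  have hw₀ : w₀ ∉ bad := fun h => by
    obtain ⟨a, ⟨-, hne⟩, ha⟩ := Set.mem_iUnion₂.1 h
    obtain ⟨_, ⟨b, hb, rfl⟩, hes⟩ := SpectralLib.exists_specializes_of_mem_closure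
      (SpectralLib.isClosed_C_of_compactOpen (q.isOpenMap _ (hclopen a).2)
        ((hclopen a).1.isCompact.image q.continuous)) ha
    have hsp : b₀ ⤳ b := q.isOpenEmbedding.isInducing.specializes_iff.1 (hb₀ ▸ hgen _ hes)
    exact hne (huniq b₀ a (hsp.mem_open (hclopen a).2 hb))
  let V : W.toScheme.Opens := ⟨badᶜ, hbad.isOpen_compl⟩
  have hVE : Etale (V.ι ≫ f) := inferInstance
  let VE : X.Etale := MorphismProperty.Over.mk ⊤ (V.ι ≫ f) hVE
  let pV : VE ⟶ WE := MorphismProperty.Over.homMk V.ι rfl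
  refine ⟨VE, pV ≫ pW, (⟨w₀, hw₀⟩ : V.toScheme), c b₀, rfl, ?_⟩
  rw [Functor.map_comp, op_comp, Functor.map_comp, ConcreteCategory.comp_apply]
  show _ = G.obj.map ((EtCoh.bc j).map pV).op t'
  rw [← pcst_map j M pV]
  refine EtPtsLib.sect_ext G _ _ _ fun Ω _ _ ζ l => ?_
  rw [EtPtsLib.germ_map, EtPtsLib.germ_map]
  refine ((EtPtsLib.germ_eq_iff_mem_agree ζ G.obj _ t' _).2 ?_).symm
  let b : ↥(pullback f j) := EtPtsLib.liftHom ζ ((Scheme.pointSmallEtale ζ).fiber.map ((EtCoh.bc j).map pV) l) default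
  show b ∈ K (c b₀)
  have hbV : q b ∈ V := by
    show (EtPtsLib.liftHom ζ _ ≫ EtPtsLib.bcFst j WE) default ∈ V
    rw [EtPtsLib.liftHom_map, Category.assoc, EtPtsLib.bcFst_map]
    rw [Scheme.Hom.comp_apply, Scheme.Hom.comp_apply]
    exact Subtype.coe_prop _
  obtain ⟨a, ha, hba⟩ := Set.mem_iUnion₂.1 (hS (Set.mem_univ b))
  by_cases hab : a = c b₀
  · exact hab ▸ hba
  · exact absurd (Set.mem_biUnion (show a ∈ {a : M | a ∈ S ∧ a ≠ c b₀} from ⟨ha, hab⟩)
      (show q b ∈ closure (q '' K a) from subset_closure ⟨b, hba, rfl⟩)) hbV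

end Groth.Agent.ConstGenLib
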