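import Groth.Agent.EtPtsLib.GermEq
import Groth.Agent.EtPtsLib.SepClosedField
import Groth.Agent.S0101
import Groth.Prelude.Def_EtCore
import Mathlib.CategoryTheory.Abelian.RightDerived
import Mathlib.Algebra.Homology.ShortComplex.ExactFunctor

/-!
# Direct images from separably closed points

Epimorphisms of sheaves on the spectrum of a separably closed field are surjective on all sections, so direct
images from such a point have no higher direct images.
-/

set_option autoImplicit false
set_option linter.style.haveILetI false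
set_option backward.isDefEq.respectTransparency false
set_option backward.isDefEq.respectTransparency.types false

universe u
open CategoryTheory CategoryTheory.Limits AlgebraicGeometry Opposite

noncomputable section

namespace Groth.Agent.ConstGenLib

variable {k : Type u} [Field k] [IsSepClosed k]

theorem surjective_app_of_epi {G Q : EtCoh.Ab (Spec (CommRingCat.of k))} (g : G ⟶ Q) [Epi g]
    (W : (Spec (CommRingCat.of k)).Etale) : Function.Surjective (g.hom.app (op W)) := by
  classical
  let S := Spec (CommRingCat.of k)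
  intro s
  haveI : Etale W.hom := W.prop
  have hpt : ∀ w : W.left, ∃ σ : EtCoh.top S ⟶ W, ∀ a, σ.left a = w := fun w => by
    obtain ⟨l, hl⟩ := Scheme.pointSmallEtaleFiberObjToPreimage_surjective
      (EtPtsLib.geomPt (W.hom w)) (EtPtsLib.geomPt_default _) W ⟨w, rfl⟩
    obtain ⟨σ, hσ⟩ := EtPtsLib.exists_top_hom_field k (EtPtsLib.geomPt (W.hom w)) W l
    refine ⟨σ, fun a => ?_⟩
    rw [Subsingleton.elim (α := PrimeSpectrum k) a (EtPtsLib.liftHom _ (EtPtsLib.topPt k (EtPtsLib.geomPt (W.hom w))) default)]
    exact hσ.trans (congrArg Subtype.val hl)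
  choose σ hσ using hpt
  haveI : ∀ w, Mono (σ w).left := fun w => by
    haveI : IsSplitMono (σ w).left := IsSplitMono.mk' ⟨W.hom, MorphismProperty.Over.w (σ w)⟩
    infer_instance
  -- lifts at the points
  have hlift : ∀ w : W.left, ∃ a, g.hom.app (op (EtCoh.top S)) a = Q.obj.map (σ w).op s := fun w => by
    haveI : Presheaf.IsLocallySurjective S.smallEtaleTopology g.hom :=
      (Sheaf.isLocallySurjective_iff_epi' AddCommGrpCat.{u + 1} g).2 inferInstance
    let ζ : Spec (CommRingCat.of k) ⟶ S := 𝟙 _
    have hcov := Presheaf.imageSieve_mem S.smallEtaleTopology g.hom (U := op (EtCoh.top S)) (Q.obj.map (σ w).op s)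
    obtain ⟨α, T, a, heq⟩ := (Presheaf.imageSieve g.hom (Q.obj.map (σ w).op s)).exists_eq_ofArrows
    rw [heq, Scheme.ofArrows_mem_smallEtaleTopology_iff] at hcov
    obtain ⟨i, v, -⟩ := Set.mem_iUnion.1
      (show (default : S) ∈ ⋃ i, Set.range (a i).left by rw [hcov]; trivial)
    obtain ⟨t, ht⟩ : ∃ t, g.hom.app (op (T i)) t = Q.obj.map (a i).op (Q.obj.map (σ w).op s) := by
      have h : (Presheaf.imageSieve g.hom (Q.obj.map (σ w).op s)).arrows (a i) := by
        rw [heq]; exact Sieve.ofArrows_mk _ _ i
      exact h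
    obtain ⟨l, -⟩ := Scheme.pointSmallEtaleFiberObjToPreimage_surjective ζ (rfl : ζ default = _) (T i)
      ⟨v, Subsingleton.elim (α := PrimeSpectrum k) _ _⟩
    obtain ⟨e, -⟩ := EtPtsLib.exists_top_hom_field k ζ (T i) l
    refine ⟨G.obj.map e.op t, ?_⟩
    rw [NatTrans.naturality_apply, ht, ← ConcreteCategory.comp_apply, ← Functor.map_comp, ← op_comp,
      (EtCore.topIsTerminal S).hom_ext (e ≫ a i) (𝟙 _), op_id, CategoryTheory.Functor.map_id]
    rfl
  choose a ha using hlift
  -- glue
  have hcov : Sieve.ofArrows (fun _ : W.left => EtCoh.top S) σ ∈ S.smallEtaleTopology W := by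
    rw [Scheme.ofArrows_mem_smallEtaleTopology_iff]
    exact Set.eq_univ_of_forall fun w => Set.mem_iUnion.2 ⟨w, (default : S), hσ w _⟩
  have hGs : Presieve.IsSheafFor (G.obj ⋙ forget AddCommGrpCat.{u + 1})
      (Presieve.ofArrows (fun _ : W.left => EtCoh.top S) σ) := by
    rw [Presieve.isSheafFor_iff_generate]
    exact ((isSheaf_iff_isSheaf_of_type _ _).1
      ((sheafCompose S.smallEtaleTopology (forget AddCommGrpCat.{u + 1})).obj G).property) _ hcov
  have hQs : Presieve.IsSheafFor (Q.obj ⋙ forget AddCommGrpCat.{u + 1})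
      (Presieve.ofArrows (fun _ : W.left => EtCoh.top S) σ) := by
    rw [Presieve.isSheafFor_iff_generate]
    exact ((isSheaf_iff_isSheaf_of_type _ _).1
      ((sheafCompose S.smallEtaleTopology (forget AddCommGrpCat.{u + 1})).obj Q).property) _ hcov
  obtain ⟨b, hb, -⟩ := (Presieve.isSheafFor_arrows_iff _ _).1 hGs a (fun i i' Z p q hpq => by
    cases isEmpty_or_nonempty Z.left with
    | inl h =>
      exact EtPtsLib.sect_ext G Z _ _ fun Ω _ _ ξ l => isEmptyElim (EtPtsLib.liftHom ξ l default)
    | inr h =>
      obtain ⟨z⟩ := h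
      have hl : p.left ≫ (σ i).left = q.left ≫ (σ i').left := congrArg (fun φ : Z ⟶ W => φ.left) hpq
      have h1 : (σ i).left (p.left z) = (σ i').left (q.left z) := congr($hl z)
      obtain rfl : i = i' := ((hσ i _).symm.trans h1).trans (hσ i' _)
      rw [(MorphismProperty.Over.Hom.ext ((cancel_mono (σ i).left).1 hl) : p = q)])
  refine ⟨b, hQs.isSeparatedFor.ext fun Y f hf => ?_⟩
  cases hf with
  | mk i =>
    show Q.obj.map (σ i).op (g.hom.app (op W) b) = Q.obj.map (σ i).op s
    rw [← NatTrans.naturality_apply, show G.obj.map (σ i).op b = a i from hb i]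
    exact ha i

variable {X Y : Scheme.{u}}

theorem preservesFiniteColimits_push_sepPoint (g : Spec (CommRingCat.of k) ⟶ X) :
    PreservesFiniteColimits (EtCoh.push g) := by
  haveI : (EtCoh.push g).IsRightAdjoint := (EtCoh.pullPushAdj g).isRightAdjoint
  haveI : (EtCoh.push g).PreservesEpimorphisms := ⟨fun {G Q} φ _ => by
    haveI : Presheaf.IsLocallySurjective X.smallEtaleTopology ((EtCoh.push g).map φ).hom := by
      constructor
      intro V s
      refine X.smallEtaleTopology.superset_covering (fun Z i _ => ?_) (X.smallEtaleTopology.top_mem V)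
      exact surjective_app_of_epi φ ((EtCoh.bc g).obj Z) _
    exact (Sheaf.isLocallySurjective_iff_epi' AddCommGrpCat.{u + 1} _).1 ‹_›⟩
  haveI : (EtCoh.push g).PreservesHomology := Functor.preservesHomology_of_preservesEpis_and_kernels _
  exact Functor.preservesFiniteColimits_of_preservesHomology _

/-- Direct images from a separably closed point are acyclic for direct images. -/
theorem isZero_Rpush_push_sepPoint (g : Spec (CommRingCat.of k) ⟶ X) (f : X ⟶ Y)
    (G : EtCoh.Ab (Spec (CommRingCat.of k))) (q : ℕ) :
    IsZero ((EtCoh.Rpush f (q + 1)).obj ((EtCoh.push g).obj G)) := by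
  haveI := preservesFiniteColimits_push_sepPoint g
  haveI := preservesFiniteColimits_push_sepPoint (g ≫ f)
  haveI : (EtCoh.push g).IsRightAdjoint := (EtCoh.pullPushAdj g).isRightAdjoint
  haveI : (EtCoh.push (g ≫ f)).IsRightAdjoint := (EtCoh.pullPushAdj (g ≫ f)).isRightAdjoint
  haveI : PreservesFiniteLimits (EtCoh.push g) := inferInstance
  haveI : PreservesFiniteLimits (EtCoh.push (g ≫ f)) := inferInstance
  haveI : PreservesFiniteLimits (EtCoh.pull g) := S0101.result g
  let R := InjectiveResolution.of G
  let C := ((EtCoh.push g).mapHomologicalComplex (ComplexShape.up ℕ)).obj R.cocomplex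
  let R' : InjectiveResolution ((EtCoh.push g).obj G) :=
    { cocomplex := C
      injective := fun n => Injective.injective_of_adjoint (EtCoh.pullPushAdj g) (R.cocomplex.X n)
      ι := (HomologicalComplex.singleMapHomologicalComplex (EtCoh.push g) (ComplexShape.up ℕ) 0).inv.app G ≫
        ((EtCoh.push g).mapHomologicalComplex (ComplexShape.up ℕ)).map R.ι
      quasiIso := inferInstance }
  refine IsZero.of_iso ?_ (R'.isoRightDerivedObj (EtCoh.push f) (q + 1))
  change IsZero (HomologicalComplex.homology _ (q + 1))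
  rw [← HomologicalComplex.exactAt_iff_isZero_homology]
  have h : (((EtCoh.push (g ≫ f)).mapHomologicalComplex (ComplexShape.up ℕ)).obj R.cocomplex).ExactAt (q + 1) :=
    (R.cocomplex_exactAt_succ q).map (EtCoh.push (g ≫ f))
  exact HomologicalComplex.ExactAt.of_iso h
    ((NatIso.mapHomologicalComplex (EtCoh.pushComp f g) (ComplexShape.up ℕ)).app R.cocomplex).symm

end Groth.Agent.ConstGenLib
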